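import Groth.Agent.Lib.QReg.Basic
import Groth.Prelude.Def_BlowUp2
import Mathlib.RingTheory.RingHom.Smooth
import Mathlib.RingTheory.Smooth.Basic

/-!
# The exceptional locus on a chart of a blowing up at an H₁-regular sequence
-/

set_option autoImplicit false
set_option linter.style.haveILetI false
universe u

open MvPolynomial

namespace Groth.Agent.ExcDiv6

variable {A : Type u} [CommRing A] {c : ℕ}

theorem isH1Regular_map {A' : Type u} [CommRing A'] (e : A ≃+* A') {a : Fin c → A}
    (ha : CAlgX.IsH1Regular a) : CAlgX.IsH1Regular (e ∘ a) := by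
  classical
  intro v hv
  have h := ha (fun i => e.symm (v i)) (by
    have := congrArg e.symm hv
    simpa [map_sum, map_mul] using this)
  have key : ∀ w ∈ Submodule.span A {w : Fin c → A | ∃ i j : Fin c, w = Pi.single i (a j) - Pi.single j (a i)},
      (fun i => e (w i)) ∈ Submodule.span A'
        {w : Fin c → A' | ∃ i j : Fin c, w = Pi.single i ((e ∘ a) j) - Pi.single j ((e ∘ a) i)} := by
    intro w hw
    induction hw using Submodule.span_induction with
    | mem x hx =>
      obtain ⟨i, j, rfl⟩ := hx
      refine Submodule.subset_span ⟨i, j, funext fun l => ?_⟩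
      simp only [Pi.sub_apply, Pi.single_apply, Function.comp_apply]
      rw [map_sub]
      split_ifs <;> simp
    | zero =>
      simp only [Pi.zero_apply, map_zero]
      exact zero_mem _
    | add x y _ _ hx hy =>
      simp only [Pi.add_apply, map_add]
      exact add_mem hx hy
    | smul r x _ hx =>
      simp only [Pi.smul_apply, smul_eq_mul, map_mul]
      exact Submodule.smul_mem _ (e r) hx
  simpa using key _ h

/-- The fractions `a i / a l`. -/
noncomputable def frac (a : Fin c → A) (l : Fin c) (i : Fin c) : Localization.Away (a l) :=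
  IsLocalization.mk' (Localization.Away (a l)) (a i) (⟨a l, Submonoid.mem_powers (a l)⟩ : Submonoid.powers (a l))

theorem frac_spec (a : Fin c → A) (l i : Fin c) :
    algebraMap A (Localization.Away (a l)) (a l) * frac a l i = algebraMap A _ (a i) :=
  IsLocalization.mk'_spec' _ (a i) (⟨a l, Submonoid.mem_powers (a l)⟩ : Submonoid.powers (a l))

theorem frac_self (a : Fin c → A) (l : Fin c) : frac a l l = 1 := IsLocalization.mk'_self _ _

/-- The kernel onto the chart lies in the ideal of the linear relations. -/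
theorem ker_aeval_frac_le (a : Fin c → A) (ha : CAlgX.IsH1Regular a) (l : Fin c) :
    RingHom.ker (aeval (R := A) (frac a l)) ≤
      Ideal.span (Set.range fun i => C (a l) * X i - C (a i)) ⊔ Ideal.span {(X l - 1 : MvPolynomial (Fin c) A)} := by
  classical
  set T := Ideal.span (Set.range fun i => C (a l) * X i - C (a i)) ⊔ Ideal.span {(X l - 1 : MvPolynomial (Fin c) A)}
    with hT
  intro P hP
  rw [RingHom.mem_ker] at hP
  set L := Localization.Away (a l)
  set d := P.totalDegree
  let H : MvPolynomial (Fin c) A := ∑ m ∈ Finset.range (d + 1), X l ^ (d - m) * homogeneousComponent m P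
  have hH : H.IsHomogeneous d := IsHomogeneous.sum _ _ _ fun m hm => by
    have := ((isHomogeneous_X A l).pow (d - m)).mul (homogeneousComponent_isHomogeneous m P)
    rw [one_mul, Nat.sub_add_cancel (Nat.lt_succ_iff.1 (Finset.mem_range.1 hm))] at this
    exact this
  have h1 : algebraMap A L (eval a H) = algebraMap A L (a l) ^ d * aeval (frac a l) P := by
    conv_rhs => rw [← sum_homogeneousComponent P, map_sum, Finset.mul_sum]
    simp only [H, map_sum, map_mul, map_pow, eval_X]
    refine Finset.sum_congr rfl fun m hm => ?_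
    obtain ⟨k, hk⟩ : ∃ k, d = k + m := ⟨d - m, (Nat.sub_add_cancel (Nat.lt_succ_iff.1 (Finset.mem_range.1 hm))).symm⟩
    rw [hk, Nat.add_sub_cancel, pow_add, mul_assoc]
    congr 1
    have hhom := homogeneousComponent_isHomogeneous m P
    generalize homogeneousComponent m P = Q at hhom
    rw [Q.as_sum, map_sum, map_sum, map_sum, Finset.mul_sum]
    refine Finset.sum_congr rfl fun e he => ?_
    have hdeg : ∑ i ∈ e.support, e i = m := by
      have := hhom (mem_support_iff.1 he)
      simpa [Finsupp.weight_apply, Finsupp.sum] using this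
    rw [eval_monomial, aeval_monomial, map_mul, map_finsuppProd, mul_left_comm, Finsupp.prod, Finsupp.prod,
      ← hdeg, ← Finset.prod_pow_eq_pow_sum, ← Finset.prod_mul_distrib]
    congr 1
    refine Finset.prod_congr rfl fun i _ => ?_
    rw [map_pow, ← mul_pow, frac_spec]
  rw [hP, mul_zero] at h1
  obtain ⟨⟨_, k, rfl⟩, hk⟩ := (IsLocalization.map_eq_zero_iff (Submonoid.powers (a l)) L _).1 h1
  have hmem := QReg.mem_relIdeal ha ((((isHomogeneous_X A l).pow k)).mul hH)
    (by rw [map_mul, map_pow, eval_X]; exact hk)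
  let φ : MvPolynomial (Fin c) A →ₐ[A] MvPolynomial (Fin c) A := aeval (Function.update X l 1)
  have hφX : ∀ i, φ (X i) - X i ∈ T := fun i => by
    rw [aeval_X]
    rcases eq_or_ne i l with rfl | hne
    · rw [Function.update_self, ← neg_sub]
      exact neg_mem (Ideal.mem_sup_right (Ideal.mem_span_singleton_self _))
    · rw [Function.update_of_ne hne, sub_self]; exact zero_mem _
  have hφ : ∀ Q, φ Q - Q ∈ T := by
    intro Q
    induction Q using MvPolynomial.induction_on with
    | C r => rw [show φ (C r) = C r from aeval_C _ _, sub_self]; exact zero_mem _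
    | add p q hp hq => rw [map_add, add_sub_add_comm]; exact add_mem hp hq
    | mul_X p i hp =>
      rw [map_mul, show φ p * φ (X i) - p * X i = (φ p - p) * φ (X i) + p * (φ (X i) - X i) by ring]
      exact add_mem (T.mul_mem_right _ hp) (T.mul_mem_left _ (hφX i))
  have hφH : φ (X l ^ k * H) = φ P := by
    conv_rhs => rw [← sum_homogeneousComponent P]
    simp only [H, map_mul, map_pow, map_sum, φ, aeval_X, Function.update_self, one_pow, one_mul]
    rfl
  have hmem2 : φ (X l ^ k * H) ∈ T := by
    obtain ⟨v, hv, hveq⟩ := hmem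
    rw [← hveq]
    refine (Submodule.span_le (p := Submodule.comap (QReg.dotF a) (T.comap φ))).2 ?_ hv
    rintro _ ⟨i, j, rfl⟩
    show φ (QReg.dotF a _) ∈ T
    have he : ∀ i, C (a l) * φ (X i) - C (a i) ∈ T := fun i => by
      rw [show C (a l) * φ (X i) - C (a i) = C (a l) * (φ (X i) - X i) + (C (a l) * X i - C (a i)) by ring]
      exact add_mem (T.mul_mem_left _ (hφX i)) (Ideal.mem_sup_left (Ideal.subset_span ⟨i, rfl⟩))
    have e : QReg.dotF a (Pi.single i (X j) - Pi.single j (X i)) = C (a i) * X j - C (a j) * X i := by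
      simp [QReg.dotF_apply, Pi.single_apply, sub_mul, Finset.sum_sub_distrib]
      ring
    rw [e, map_sub, map_mul, map_mul, show φ (C (a i)) = C (a i) from aeval_C _ _,
      show φ (C (a j)) = C (a j) from aeval_C _ _,
      show C (a i) * φ (X j) - C (a j) * φ (X i) =
        φ (X i) * (C (a l) * φ (X j) - C (a j)) - φ (X j) * (C (a l) * φ (X i) - C (a i)) by ring]
    exact T.sub_mem (T.mul_mem_left _ (he j)) (T.mul_mem_left _ (he i))
  rw [hφH] at hmem2
  have := T.sub_mem hmem2 (hφ P)
  rwa [sub_sub_cancel] at this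

/-- The affine space `X l = 1` is smooth. -/
theorem smooth_quotient_X_sub_one (R : Type u) [CommRing R] (l : Fin c) :
    Algebra.Smooth R (MvPolynomial (Fin c) R ⧸ Ideal.span {(X l - 1 : MvPolynomial (Fin c) R)}) := by
  classical
  haveI : Algebra.Smooth R (MvPolynomial {i : Fin c // i ≠ l} R) := ⟨inferInstance, inferInstance⟩
  let F : MvPolynomial (Fin c) R →ₐ[R] MvPolynomial {i : Fin c // i ≠ l} R :=
    aeval fun i => if h : i = l then 1 else X ⟨i, h⟩
  let F' : (MvPolynomial (Fin c) R ⧸ Ideal.span {(X l - 1 : MvPolynomial (Fin c) R)}) →ₐ[R]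
      MvPolynomial {i : Fin c // i ≠ l} R :=
    Ideal.Quotient.liftₐ _ F fun q hq => by
      obtain ⟨q, rfl⟩ := Ideal.mem_span_singleton.1 hq
      simp [F]
  let G : MvPolynomial {i : Fin c // i ≠ l} R →ₐ[R]
      (MvPolynomial (Fin c) R ⧸ Ideal.span {(X l - 1 : MvPolynomial (Fin c) R)}) :=
    aeval fun i => Ideal.Quotient.mk _ (X i.1)
  have h1 : F'.comp G = AlgHom.id R _ := by
    refine MvPolynomial.algHom_ext fun i => ?_
    simp only [AlgHom.comp_apply, G, aeval_X, AlgHom.id_apply]
    show F (X i.1) = X i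
    simp [F, i.2]
  have h2 : G.comp F' = AlgHom.id R _ := by
    refine Ideal.Quotient.algHom_ext R (MvPolynomial.algHom_ext fun i => ?_)
    show G (F (X i)) = Ideal.Quotient.mk _ (X i)
    rcases eq_or_ne i l with rfl | hne
    · simp only [F, aeval_X, dif_pos, map_one]
      rw [← map_one (Ideal.Quotient.mk (Ideal.span {(X i - 1 : MvPolynomial (Fin c) R)})), Ideal.Quotient.eq]
      exact Ideal.mem_span_singleton'.2 ⟨-1, by ring⟩
    · simp [F, G, hne]
  exact Algebra.Smooth.of_equiv (AlgEquiv.ofAlgHom G F' h2 h1)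

/-- On a chart the exceptional locus is smooth over the centre. -/
theorem smooth_of_chart (a : Fin c → A) (ha : CAlgX.IsH1Regular a) (l : Fin c) (I : Ideal A)
    (hI : I = Ideal.span (Set.range a)) {R₀ R₁ : Type u} [CommRing R₀] [CommRing R₁] (p : A →+* R₀)
    (hp : Function.Surjective p) (hpker : RingHom.ker p = I) (r : BlowUp.affineAlgebra A I (a l) →+* R₁)
    (hr : Function.Surjective r)
    (hrker : RingHom.ker r = I.map (algebraMap A (BlowUp.affineAlgebra A I (a l))))
    (ψ : R₀ →+* R₁) (hψ : ∀ x, ψ (p x) = r (algebraMap A _ x)) : ψ.Smooth := by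
  classical
  algebraize [ψ]
  rw [← RingHom.algebraMap_toAlgebra ψ, RingHom.smooth_algebraMap]
  let b : Fin c → BlowUp.affineAlgebra A I (a l) := fun i =>
    ⟨frac a l i, Algebra.subset_adjoin ⟨a i, hI ▸ Ideal.subset_span ⟨i, rfl⟩, rfl⟩⟩
  let e : MvPolynomial (Fin c) A →ₐ[A] BlowUp.affineAlgebra A I (a l) := aeval b
  have he : ∀ P, (e P : Localization.Away (a l)) = aeval (frac a l) P := fun P => by
    rw [show ((e P : Localization.Away (a l))) = (BlowUp.affineAlgebra A I (a l)).val (e P) from rfl,
      MvPolynomial.comp_aeval_apply]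
    rfl
  have hesurj : Function.Surjective e := by
    rintro ⟨z, hz⟩
    suffices ∃ P, aeval (frac a l) P = z by
      obtain ⟨P, hP⟩ := this
      exact ⟨P, Subtype.ext ((he P).trans hP)⟩
    induction hz using Algebra.adjoin_induction with
    | mem x hx =>
      obtain ⟨y, hy, rfl⟩ := hx
      rw [hI, Ideal.mem_span_range_iff_exists_fun] at hy
      obtain ⟨v, rfl⟩ := hy
      refine ⟨∑ i, C (v i) * X i, ?_⟩
      symm
      rw [IsLocalization.mk'_eq_iff_eq_mul]
      simp only [map_sum, map_mul, aeval_C, aeval_X, Finset.sum_mul]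
      exact Finset.sum_congr rfl fun i _ => by rw [mul_assoc, mul_comm (frac a l i), frac_spec]
    | algebraMap x => exact ⟨C x, aeval_C _ _⟩
    | add x y _ _ hx hy =>
      obtain ⟨P, rfl⟩ := hx
      obtain ⟨Q, rfl⟩ := hy
      exact ⟨P + Q, map_add _ _ _⟩
    | mul x y _ _ hx hy =>
      obtain ⟨P, rfl⟩ := hx
      obtain ⟨Q, rfl⟩ := hy
      exact ⟨P * Q, map_mul _ _ _⟩
  let Θ : MvPolynomial (Fin c) R₀ →ₐ[R₀] R₁ := aeval fun i => r (b i)
  have hΘ : ∀ P, Θ (MvPolynomial.map p P) = r (e P) := by
    intro P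
    induction P using MvPolynomial.induction_on with
    | C x =>
      rw [map_C, aeval_C, show e (C x) = algebraMap A _ x from aeval_C _ _, ← hψ]
      rfl
    | add P Q hP hQ => simp only [map_add, hP, hQ]
    | mul_X P i hP => simp only [map_mul, hP, MvPolynomial.map_X, Θ, e, aeval_X]
  have hmap : Function.Surjective (MvPolynomial.map (σ := Fin c) p) := MvPolynomial.map_surjective p hp
  have hΘsurj : Function.Surjective Θ := fun z => by
    obtain ⟨w, rfl⟩ := hr z
    obtain ⟨P, rfl⟩ := hesurj w
    exact ⟨MvPolynomial.map p P, hΘ P⟩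
  have hker : RingHom.ker Θ = Ideal.span {(X l - 1 : MvPolynomial (Fin c) R₀)} := by
    refine le_antisymm (fun q hq => ?_) ((Ideal.span_singleton_le_iff_mem _).2 ?_)
    · obtain ⟨P, rfl⟩ := hmap q
      rw [RingHom.mem_ker, hΘ, ← RingHom.mem_ker, hrker] at hq
      have hIe : I.map (algebraMap A (BlowUp.affineAlgebra A I (a l))) = (I.map (C : A →+* MvPolynomial (Fin c) A)).map e.toRingHom := by
        rw [Ideal.map_map]
        congr 1
        exact RingHom.ext fun x => (aeval_C b x).symm
      rw [hIe, Ideal.mem_map_iff_of_surjective e.toRingHom hesurj] at hq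
      obtain ⟨Q, hQ, hQe⟩ := hq
      have h2 := ker_aeval_frac_le a ha l (show P - Q ∈ RingHom.ker (aeval (R := A) (frac a l)) by
        rw [RingHom.mem_ker, ← he, map_sub, show e Q = e P from hQe, sub_self]; rfl)
      have hC : ∀ x ∈ I, MvPolynomial.map p (C x : MvPolynomial (Fin c) A) = 0 := fun x hx => by
        rw [map_C, show p x = 0 from RingHom.mem_ker.1 (by rwa [hpker]), map_zero]
      have hle : (Ideal.span (Set.range fun i => C (a l) * X i - C (a i)) ⊔
          Ideal.span {(X l - 1 : MvPolynomial (Fin c) A)}) ≤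
          (Ideal.span {(X l - 1 : MvPolynomial (Fin c) R₀)}).comap (MvPolynomial.map p) := by
        refine sup_le (Ideal.span_le.2 ?_) ((Ideal.span_singleton_le_iff_mem _).2 ?_)
        · rintro _ ⟨i, rfl⟩
          rw [SetLike.mem_coe, Ideal.mem_comap, map_sub, map_mul,
            hC _ (hI ▸ Ideal.subset_span ⟨l, rfl⟩), hC _ (hI ▸ Ideal.subset_span ⟨i, rfl⟩), zero_mul, sub_zero]
          exact zero_mem _
        · rw [Ideal.mem_comap, map_sub, MvPolynomial.map_X, map_one]
          exact Ideal.mem_span_singleton_self _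
      have hQ0 : MvPolynomial.map p Q = 0 := by
        have : I.map (C : A →+* MvPolynomial (Fin c) A) ≤ RingHom.ker (MvPolynomial.map p) :=
          Ideal.map_le_iff_le_comap.2 fun x hx => hC x hx
        exact this hQ
      have := hle h2
      rwa [Ideal.mem_comap, map_sub, hQ0, sub_zero] at this
    · rw [RingHom.mem_ker, map_sub, map_one, aeval_X, sub_eq_zero,
        show b l = 1 from Subtype.ext (frac_self a l), map_one]
  haveI := smooth_quotient_X_sub_one R₀ l
  exact Algebra.Smooth.of_equiv ((Ideal.quotientEquivAlgOfEq R₀ hker.symm).trans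
    (Ideal.quotientKerAlgEquivOfSurjective hΘsurj))

end Groth.Agent.ExcDiv6
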